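import Cfsg.Agent.Helper16.Brauer43.L3Defs

/-!
# Pieces (GL1), (GL2) of helper16's WANTED #7095 (S0996 / S0999 / S4701, Brauer 1943, layer L3)

The relation `D.hrel` at `g = 1`: the degree equation, and all members of `Y` have the same degree.
-/

set_option autoImplicit false
set_option linter.unusedSectionVars false

namespace Cfsg.Agent.Helper80.B43

open Cfsg Cfsg.Agent.Helper16 Cfsg.Agent.Helper16.DefOne Cfsg.Agent.Helper82.DefOne
  Cfsg.Agent.Helper77.DefOne Cfsg.Agent.Helper16.Brauer43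
open scoped ComplexConjugate

universe u

variable {G : Type u} [Group G] [Fintype G] {p : ℕ} [Fact p.Prime] (P : Sylow p G)
  [Fintype (P : Subgroup G)] (D : L0Data P)

/-- (GL2) the degree equation -/
theorem degree_equation (ψ : IrrCharacter G) (hψ : ψ ∈ D.Y) :
    D.δ * (charDegree (ψ : G → ℂ) : ℤ) =
      ∑ᶠ χ ∈ D.X, D.ε χ * (charDegree (χ : G → ℂ) : ℤ) := by
  have : Finite (IrrCharacter G) := Helper79.irr_finite'
  have hp : p.Prime := Fact.out
  have h1 : ¬ p ∣ orderOf (1 : G) := by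
    rw [orderOf_one]
    exact hp.one_lt.ne' ∘ Nat.dvd_one.1
  have h2 := D.hrel ψ hψ 1 h1
  apply Int.cast_injective (α := ℂ)
  have h3 : ((∑ᶠ χ ∈ D.X, D.ε χ * (charDegree (χ : G → ℂ) : ℤ) : ℤ) : ℂ) =
      ∑ᶠ χ ∈ D.X, (D.ε χ : ℂ) * (χ : G → ℂ) 1 := by
    have h4 := AddMonoidHom.map_finsum_mem
      (fun χ : IrrCharacter G => D.ε χ * (charDegree (χ : G → ℂ) : ℤ)) (Int.castAddHom ℂ)
      (Set.toFinite D.X)
    rw [Int.coe_castAddHom] at h4
    refine h4.trans ?_
    apply finsum_mem_congr rfl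
    intro χ _
    rw [Helper79.irr_one χ]
    push_cast
    rfl
  rw [h3, ← h2, Helper79.irr_one ψ]
  push_cast
  rfl

/-- (GL1) all members of `Y` have the same degree -/
theorem deg_Y_eq (ψ ψ' : IrrCharacter G) (hψ : ψ ∈ D.Y) (hψ' : ψ' ∈ D.Y) :
    charDegree (ψ : G → ℂ) = charDegree (ψ' : G → ℂ) := by
  have h1 := degree_equation P D ψ hψ
  have h2 := degree_equation P D ψ' hψ'
  rw [← h2] at h1
  have hδ : D.δ ≠ 0 := by
    rcases D.hδ with h | h <;> rw [h] <;> norm_num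
  exact_mod_cast mul_left_cancel₀ hδ h1

end Cfsg.Agent.Helper80.B43
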