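import Cfsg.Agent.Helper16.Brauer43.L3Defs
import Cfsg.Agent.Helper82.Brauer43.EpsPlus

/-!
# Piece (GL3) of helper16's WANTED #7095 (S0996 / S0999 / S4701, Brauer 1943, layer L3)

The degrees modulo `p`.
-/

set_option autoImplicit false
set_option linter.unusedSectionVars false

namespace Cfsg.Agent.Helper80.B43

open Cfsg Cfsg.Agent.Helper16 Cfsg.Agent.Helper16.DefOne Cfsg.Agent.Helper82.DefOne
  Cfsg.Agent.Helper77.DefOne Cfsg.Agent.Helper16.Brauer43
open scoped ComplexConjugate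

universe u

variable {G : Type u} [Group G] [Fintype G] {p : ℕ} [Fact p.Prime] (P : Sylow p G)
  [Fintype (P : Subgroup G)] (D : L0Data P)

theorem deg_modEq_X (hP : Nat.card P = p) (χ : IrrCharacter G) (hχ : χ ∈ D.X) :
    (charDegree (χ : G → ℂ) : ℤ) ≡ D.ε χ [ZMOD p] :=
  Helper16.DefOne.degree_modEq_of_const P hP χ (D.ε χ) (D.hX χ hχ)

theorem deg_modEq_Y (hP : Nat.card P = p) (ψ : IrrCharacter G) (hψ : ψ ∈ D.Y) :
    (charDegree (ψ : G → ℂ) : ℤ) ≡ D.δ * ((cen P).relIndex (nor P) : ℤ) [ZMOD p] := by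
  obtain ⟨a, ha⟩ := Helper82.Brauer43.sum_subgroup_eq_nat (P : Subgroup G)
    (Helper74.irr_isCharacter ψ)
  have h1 := D.hY1 ψ hψ
  rw [ha] at h1
  have hP' : Nat.card (P : Subgroup G) = p := hP
  rw [hP'] at h1
  have h2 : ((p * a : ℕ) : ℤ) = (charDegree (ψ : G → ℂ) : ℤ) -
      D.δ * ((cen P).relIndex (nor P) : ℤ) := by
    apply Int.cast_injective (α := ℂ)
    push_cast
    push_cast at h1
    exact h1
  rw [Int.modEq_iff_dvd]
  refine ⟨-(a : ℤ), ?_⟩
  push_cast at h2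
  linarith

theorem dvd_deg_Z (hP : Nat.card P = p) (χ : IrrCharacter G) (hX : χ ∉ D.X) (hY : χ ∉ D.Y) :
    p ∣ charDegree (χ : G → ℂ) := by
  obtain ⟨a, ha⟩ := Helper82.Brauer43.sum_subgroup_eq_nat (P : Subgroup G)
    (Helper74.irr_isCharacter χ)
  have hP' : Nat.card (P : Subgroup G) = p := hP
  rw [hP'] at ha
  have h1 : ∑ z : (P : Subgroup G), (χ : G → ℂ) z = (charDegree (χ : G → ℂ) : ℂ) := by
    rw [Finset.sum_eq_single (1 : (P : Subgroup G))]
    · rw [Subgroup.coe_one, Helper79.irr_one χ]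
    · intro z _ hz
      apply D.hZ χ hX hY (z : G) z.2
      intro h
      exact hz (Subtype.ext h)
    · intro h
      exact absurd (Finset.mem_univ _) h
  rw [h1] at ha
  have h2 : charDegree (χ : G → ℂ) = p * a := by exact_mod_cast ha
  exact ⟨a, h2⟩

end Cfsg.Agent.Helper80.B43
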