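import Cfsg.Agent.Helper80.B43.GL12
import Cfsg.Agent.Helper20.D8Main

/-!
# Piece (GL6) of helper16's WANTED #7095 (S0996 / S0999 / S4701, Brauer 1943, layer L3)

For a perfect group with `|Y| ≥ 2` the principal character lies in `X`, with sign `+1`.
-/

set_option autoImplicit false
set_option linter.unusedSectionVars false

namespace Cfsg.Agent.Helper80.B43

open Cfsg Cfsg.Agent.Helper16 Cfsg.Agent.Helper16.DefOne Cfsg.Agent.Helper82.DefOne
  Cfsg.Agent.Helper77.DefOne Cfsg.Agent.Helper16.Brauer43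
open scoped ComplexConjugate

universe u

variable {G : Type u} [Group G] [Fintype G] {p : ℕ} [Fact p.Prime] (P : Sylow p G)
  [Fintype (P : Subgroup G)] (D : L0Data P)

/-- `P` is not trivial as soon as `Y` is not empty -/
theorem exists_ne_one_of_mem_Y (ψ : IrrCharacter G) (hψ : ψ ∈ D.Y) :
    ∃ x : G, x ∈ (P : Subgroup G) ∧ x ≠ 1 := by
  by_contra hne
  push Not at hne
  have h1 : ∑ z : (P : Subgroup G), (ψ : G → ℂ) z = (charDegree (ψ : G → ℂ) : ℂ) := by
    rw [Finset.sum_eq_single (1 : (P : Subgroup G))]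
    · rw [Subgroup.coe_one, Helper79.irr_one ψ]
    · intro z _ hz
      exact absurd (Subtype.ext (hne (z : G) z.2)) hz
    · intro h
      exact absurd (Finset.mem_univ _) h
  have h2 := D.hY1 ψ hψ
  rw [h1] at h2
  have he : ((cen P).relIndex (nor P) : ℂ) ≠ 0 := by
    have : (cen P).relIndex (nor P) ≠ 0 := Subgroup.index_ne_zero_of_finite
    exact_mod_cast this
  have hδ : (D.δ : ℂ) ≠ 0 := by
    rcases D.hδ with h | h <;> rw [h] <;> norm_num
  have h3 : (D.δ : ℂ) * ((cen P).relIndex (nor P) : ℂ) = 0 := by linear_combination h2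
  exact mul_ne_zero hδ he h3

/-- (GL6) the principal character lies in `X` with sign `+1` -/
theorem principal_mem_X (hperf : commutator G = ⊤)
    (ht : 2 ≤ (p - 1) / (cen P).relIndex (nor P)) :
    Helper79.principalIrr G ∈ D.X ∧ D.ε (Helper79.principalIrr G) = 1 := by
  have : Finite (IrrCharacter G) := Helper79.irr_finite'
  have hpr : ∀ g : G, (Helper79.principalIrr G : G → ℂ) g = 1 := fun _ => rfl
  -- `Y` has at least two members
  have hYfin : D.Y.Finite := Set.toFinite _
  have hYcard : hYfin.toFinset.card = (p - 1) / (cen P).relIndex (nor P) := by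
    rw [← D.hcY, Nat.card_eq_card_finite_toFinset hYfin]
  have hYne : hYfin.toFinset.Nonempty := by
    rw [← Finset.card_pos, hYcard]
    omega
  obtain ⟨θ, hθ'⟩ := hYne
  have hθ : θ ∈ D.Y := hYfin.mem_toFinset.mp hθ'
  obtain ⟨x, hxP, hx1⟩ := exists_ne_one_of_mem_Y P D θ hθ
  -- not in `Y`
  have hnY : Helper79.principalIrr G ∉ D.Y := by
    intro h
    have hsub : hYfin.toFinset ⊆ {Helper79.principalIrr G} := by
      intro ψ hψ'
      rw [Finset.mem_singleton]
      have hψ : ψ ∈ D.Y := hYfin.mem_toFinset.mp hψ'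
      apply Helper20.D8.eq_principal_of_degree_one hperf ψ
      rw [Helper79.irr_one ψ, deg_Y_eq P D ψ _ hψ h, ← Helper79.irr_one, hpr]
    have := Finset.card_le_card hsub
    rw [hYcard, Finset.card_singleton] at this
    omega
  have hX : Helper79.principalIrr G ∈ D.X := by
    by_contra hnX
    have h0 := D.hZ _ hnX hnY x hxP hx1
    rw [hpr] at h0
    exact one_ne_zero h0
  refine ⟨hX, ?_⟩
  have h1 := D.hX _ hX x hxP hx1
  rw [hpr] at h1
  exact_mod_cast h1.symm

end Cfsg.Agent.Helper80.B43
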